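import Cfsg.Agent.H655.LySixtySeven
import Cfsg.Agent.H582.Ly.Three

/-!
# The Lyons group: elements of order 37 have centralizer of order 37 (helper215, for S3828)

As `H655.LySixtySeven`; elements of order 3 commute with a four-group or are of type `3.McL`, so `3 ∤ |C(x)|`.
-/

set_option autoImplicit false
set_option maxRecDepth 100000

namespace Cfsg.Agent.H215.CC.LyThirtySeven

open Subgroup Cfsg
open Cfsg.Agent.H995.CopEngine
open Cfsg.Agent.H655.LySixtySeven (normal_of mem_norm_of index_mod_other pow_dvd_norm)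
open Cfsg.Agent.SporRec Cfsg.Agent.SporRec.TwoAn Cfsg.Agent.SporRec.LyType Cfsg.Agent.SporRec.LyFiveCore
open Cfsg.Agent.H513.NilpTools Cfsg.Agent.H513.NilpLy Cfsg.Agent.OrdDiv

universe u

theorem chk37 : chkOne H568.RowLy.fac 51765179004000000 37 0 = true := by decide +kernel

/-- the test for `|C(x)| = c`, `|N : C| = e` -/
def test (c e : ℕ) : Bool :=
  let k := 51765179004000000 / (c * e)
  !Nat.beq (k % 37) 1 || (Nat.beq (c % 7) 0 && !Nat.beq (k % 7) 1) || (Nat.beq (c % 11) 0 && !Nat.beq (k % 11) 1) ||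
    (Nat.beq (c % 31) 0 && !Nat.beq (k % 31) 1) || (Nat.beq (c % 67) 0 && !Nat.beq (k % 67) 1) || Nat.beq c 37

theorem arith : allDiv [(7, 1), (11, 1), (31, 1), (67, 1)] 37 (fun c =>
    [1, 2, 3, 4, 6, 9, 12, 18, 36].all fun e => test c e) = true := by decide +kernel

/-- the elements of order 37 are isolated -/
theorem cent_le_norm (hK : AllKnown.{u}) {G : Type u} [Group G] [Finite G] (h : Spor.IsoLy G) {x : G}
    (hx : orderOf x = 37) (y : G) (hy1 : y ≠ 1) (hyx : y * x = x * y) :
    centralizer ({y} : Set G) ≤ normalizer (zpowers x : Set G) := by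
  obtain ⟨-, hsimp, hcard, -⟩ := TypeM.FactsLy.facts h
  have hX : centralizer ({y} : Set G) ≠ ⊤ := by
    intro ht
    have h1 : y ∈ center G := by
      rw [mem_center_iff]
      intro g
      have h2 : g ∈ centralizer ({y} : Set G) := by rw [ht]; trivial
      exact mem_centralizer_singleton_iff.1 h2
    rcases (inferInstance : (center G).Normal).eq_bot_or_eq_top with h2 | h2
    · rw [h2, mem_bot] at h1
      exact hy1 h1
    · have h3 : ∀ a b : G, a * b = b * a := fun a b =>
        (mem_center_iff.1 (show b ∈ center G by rw [h2]; trivial)) a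
      have h4 : (Nat.card G).Prime := by
        let _ : CommGroup G := { (inferInstance : Group G) with mul_comm := h3 }
        exact IsSimpleGroup.prime_card
      rw [hcard] at h4
      exact absurd (h4.eq_one_or_self_of_dvd 2 (by norm_num)) (by norm_num)
  have hxX : x ∈ centralizer ({y} : Set G) := mem_centralizer_singleton_iff.2 hyx.symm
  have hdX : Nat.card (centralizer ({y} : Set G)) ∣ 51765179004000000 := hcard ▸ Subgroup.card_subgroup_dvd_card _
  intro g hg
  have key := normal_of (X := centralizer ({y} : Set G)) (r := 37) (by norm_num)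
    (fun h => by have := h.trans hdX; revert this; norm_num) ?_
    (fun p hp hpr i hi hd => H568.RowLy.ndvd H568.RowLy.valid (by decide +kernel) p i hp hpr (by omega)
      (hd.trans hdX)) (x := ⟨x, hxX⟩) (by rw [Subgroup.orderOf_mk, hx]) ⟨g, hg⟩
  · obtain ⟨i, hi⟩ := Subgroup.mem_zpowers_iff.1 key
    have : Fact (Nat.Prime 37) := ⟨by norm_num⟩
    exact mem_norm_of (Subgroup.mem_zpowers_iff.2 ⟨i, congrArg Subtype.val hi⟩)
  · intro S _ _ hs hna hSX h37
    have hne : Nat.card S ≠ 51765179004000000 := by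
      intro h1
      apply hX
      apply Subgroup.eq_top_of_card_eq
      apply Nat.dvd_antisymm (Subgroup.card_subgroup_dvd_card _)
      rw [hcard, ← h1]
      exact hSX
    exact (Nat.card_pos (α := S)).ne' (card_of_chk hK hna H568.RowLy.valid (hSX.trans hdX) h37 hne chk37)

/-- an involution normalizing a group of odd prime order `⟨x⟩` inverts or centralizes it -/
theorem inv_or {G : Type u} [Group G] {x s : G} {r : ℕ} (hr : r.Prime) (hx : orderOf x = r) (hs : s * s = 1)
    (hn : s * x * s⁻¹ ∈ zpowers x) : s * x * s⁻¹ = x ∨ s * x * s⁻¹ = x⁻¹ := by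
  obtain ⟨k, hk⟩ := Subgroup.mem_zpowers_iff.1 hn
  have hsi : s⁻¹ = s := inv_eq_of_mul_eq_one_left hs
  have h1 : x ^ (k * k) = x := by
    have e1 : s * (x ^ k) * s⁻¹ = (x ^ k) ^ k := by rw [← conj_zpow, hk]
    have e2 : s * (x ^ k) * s⁻¹ = x := by
      rw [hk, hsi]
      calc s * (s * x * s) * s = (s * s) * x * (s * s) := by group
        _ = x := by rw [hs]; group
    rw [zpow_mul, ← e1, e2]
  have h2 : x ^ (k * k - 1) = 1 := by rw [zpow_sub, h1, zpow_one, mul_inv_cancel]
  have h3 : (r : ℤ) ∣ (k - 1) * (k + 1) := by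
    rw [← hx, show (k - 1) * (k + 1) = k * k - 1 by ring]
    exact orderOf_dvd_iff_zpow_eq_one.2 h2
  rcases (Nat.prime_iff_prime_int.1 hr).dvd_or_dvd h3 with h | h
  · left
    rw [← hx] at h
    have h4 := orderOf_dvd_iff_zpow_eq_one.1 h
    rw [← hk, show k = (k - 1) + 1 by ring, zpow_add, h4, one_mul, zpow_one]
  · right
    rw [← hx] at h
    have h4 := orderOf_dvd_iff_zpow_eq_one.1 h
    rw [← hk, show k = (k + 1) + (-1) by ring, zpow_add, h4, one_mul, zpow_neg_one]

/-- **Elements of order 37 of the Lyons group.** -/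
theorem card_centralizer (hK : AllKnown.{u}) {G : Type u} [Group G] [Finite G] (h : Spor.IsoLy G) {x : G}
    (hx : orderOf x = 37) : Nat.card (centralizer ({x} : Set G)) = 37 := by
  have hC := cent_le_norm hK h hx
  obtain ⟨x₀, h₀⟩ := Cfsg.Agent.H582.Ly.exists_tdata h
  obtain ⟨-, hsimp, hcard, ⟨M⟩⟩ := TypeM.FactsLy.facts h
  let L : LyType G := { t := M.t, K := M.K, hz := M.hz, one := M.one }
  obtain ⟨f, hf, hbig⟩ := exists_f L (by rw [hcard]; norm_num)
  have h5F : Fact (Nat.Prime 5) := ⟨Nat.prime_five⟩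
  have h3F : Fact (Nat.Prime 3) := ⟨Nat.prime_three⟩
  have h37F : Fact (Nat.Prime 37) := ⟨by norm_num⟩
  have h2F : Fact (Nat.Prime 2) := ⟨Nat.prime_two⟩
  have h37q : ¬ 37 ^ 2 ∣ Nat.card G := by rw [hcard]; norm_num
  have hC2 : ¬ 2 ∣ Nat.card ↥(centralizer ({x} : Set G)) := by
    intro hd
    obtain ⟨t, ht⟩ := exists_prime_orderOf_dvd_card' 2 hd
    exact H393.Iso.na_of_mt (by norm_num) (by norm_num) (by norm_num) M x t hx (by rw [Subgroup.orderOf_coe, ht])
      (mem_centralizer_singleton_iff.1 t.2).symm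
  have e5 : ¬ 5 ^ 4 ∣ Nat.card ↥(centralizer ({x} : Set G)) := not_dvd_cent hbig hx (by rw [hf]; norm_num)
  -- the prime three
  have hC3 : ¬ 3 ∣ Nat.card ↥(centralizer ({x} : Set G)) := by
    intro hd
    obtain ⟨⟨y, hyC⟩, hy⟩ := exists_prime_orderOf_dvd_card' 3 hd
    rw [Subgroup.orderOf_mk] at hy
    have hyx : y * x = x * y := mem_centralizer_singleton_iff.1 hyC
    have hy1 : y ≠ 1 := by
      rintro rfl
      rw [orderOf_one] at hy
      exact absurd hy (by norm_num)
    by_cases hne : ∃ g : G, g * y * g⁻¹ = x₀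
    · obtain ⟨g, hg⟩ := hne
      have h1 : orderOf (⟨g * x * g⁻¹, mem_centralizer_singleton_iff.2 (by
          rw [← hg]
          calc g * x * g⁻¹ * (g * y * g⁻¹) = g * (x * y) * g⁻¹ := by group
            _ = g * (y * x) * g⁻¹ := by rw [hyx]
            _ = _ := by group)⟩ : centralizer ({x₀} : Set G)) = 37 := by
        rw [Subgroup.orderOf_mk, ← hx]
        exact MulEquiv.orderOf_eq (MulAut.conj g) x
      have h2 := orderOf_dvd_natCard (⟨g * x * g⁻¹, mem_centralizer_singleton_iff.2 (by
          rw [← hg]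
          calc g * x * g⁻¹ * (g * y * g⁻¹) = g * (x * y) * g⁻¹ := by group
            _ = g * (y * x) * g⁻¹ := by rw [hyx]
            _ = _ := by group)⟩ : centralizer ({x₀} : Set G))
      rw [h1, h₀.mcl.card] at h2
      revert h2
      norm_num
    · obtain ⟨s, w, hs, hw, hsw, hsy, hwy, hws⟩ := Cfsg.Agent.H582.Ly.exists_four M hcard h₀ hy hne
      have hle := hC y hy1 hyx
      have key : ∀ v : G, orderOf v = 2 → v * y = y * v → v * x * v⁻¹ = x⁻¹ := by
        intro v hv hvy
        have hvv : v * v = 1 := by rw [← pow_two, ← hv, pow_orderOf_eq_one]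
        have hvN : v ∈ normalizer (zpowers x : Set G) := hle (mem_centralizer_singleton_iff.2 hvy)
        have h3 := (mem_normalizer_iff.1 hvN x).1 (mem_zpowers x)
        rcases inv_or (by norm_num) hx hvv h3 with h4 | h4
        · exfalso
          apply hC2
          have h5 : v * x = x * v := mul_inv_eq_iff_eq_mul.1 h4
          have h6 := orderOf_dvd_natCard (⟨v, mem_centralizer_singleton_iff.2 h5⟩ : centralizer ({x} : Set G))
          rwa [Subgroup.orderOf_mk, hv] at h6
        · exact h4
      have k1 := key s hs hsy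
      have k2 := key w hw hwy
      have k3 := key (s * w) hsw (by rw [mul_assoc, hwy, ← mul_assoc, hsy, mul_assoc])
      have k4 : s * w * x * (s * w)⁻¹ = x := by
        calc s * w * x * (s * w)⁻¹ = s * (w * x * w⁻¹) * s⁻¹ := by group
          _ = (s * x * s⁻¹)⁻¹ := by rw [k2]; group
          _ = x := by rw [k1, inv_inv]
      rw [k4] at k3
      have h5 : x ^ 2 = 1 := by rw [pow_two]; nth_rewrite 2 [k3]; exact mul_inv_cancel x
      have h6 := orderOf_dvd_of_pow_eq_one h5
      rw [hx] at h6
      revert h6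
      norm_num
  set N := normalizer ((zpowers x : Subgroup G) : Set G) with hN
  set C := centralizer ({x} : Set G) with hCdef
  have hcn : Nat.card ↥N ∣ Nat.card ↥C * (37 - 1) := H568.OddPair.card_normalizer hx
  have hCN : C ≤ N := by
    intro g hg
    apply mem_norm_of
    have h1 : g * x = x * g := mem_centralizer_singleton_iff.1 hg
    rw [h1, mul_inv_cancel_right]
    exact mem_zpowers x
  have hcc : Nat.card (C.subgroupOf N) = Nat.card C := Nat.card_congr (Subgroup.subgroupOfEquivOfLe hCN).toEquiv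
  have hcm := (C.subgroupOf N).card_mul_index
  rw [hcc] at hcm
  set e := (C.subgroupOf N).index with he
  have he36 : e ∣ 36 := by
    rw [← hcm] at hcn
    exact Nat.dvd_of_mul_dvd_mul_left Nat.card_pos hcn
  have hmod : N.index ≡ 1 [MOD 37] := H568.OddPair.index_mod h37q hx
  have hNi : 51765179004000000 / (Nat.card C * e) = N.index := by
    rw [hcm, ← hcard, ← N.card_mul_index]
    exact Nat.mul_div_cancel_left _ Nat.card_pos
  have hxc : 37 ∣ Nat.card C := by
    have h1 := orderOf_dvd_natCard (⟨x, mem_centralizer_singleton_iff.2 rfl⟩ : C)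
    rwa [Subgroup.orderOf_mk, hx] at h1
  -- the prime five
  have h5C : ¬ 5 ∣ Nat.card C := by
    intro h5
    have h1 : 5 ^ 6 ∣ Nat.card ↥N := pow_dvd_norm hC Nat.prime_five h5
      (fun h => by have := h.trans he36; revert this; norm_num) (by rw [hcard]; norm_num)
    apply e5
    exact Nat.Coprime.dvd_of_dvd_mul_right (by norm_num) ((pow_dvd_pow 5 (by norm_num : 4 ≤ 6)).trans (h1.trans hcn))
  have hother : ∀ q : ℕ, q.Prime → ¬ q ^ 2 ∣ Nat.card G → q ∣ Nat.card C → N.index % q = 1 := by
    intro q hq hq2 hqC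
    have h1 : N.index % q = 1 % q := index_mod_other h37q hx hC hq hq2 hqC
    rwa [Nat.mod_eq_of_lt hq.one_lt] at h1
  -- the divisor
  obtain ⟨m, hm⟩ := hxc
  have hcd := card_subgroup_dvd_card C
  rw [hcard, show (51765179004000000 : ℕ) = 2 ^ 8 * (3 ^ 7 * (5 ^ 6 * (37 * (7 * 11 * 31 * 67)))) by norm_num] at hcd
  have hcd2 := dvd_drop Nat.prime_five h5C (dvd_drop Nat.prime_three hC3 (dvd_drop Nat.prime_two hC2 hcd))
  have hm2 : m ∣ prodL [(7, 1), (11, 1), (31, 1), (67, 1)] := by
    rw [hm] at hcd2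
    exact (Nat.dvd_of_mul_dvd_mul_left (by norm_num) hcd2).trans (dvd_of_eq (by norm_num [prodL]))
  have ht := List.all_eq_true.1 (allDiv_spec (by norm_num) arith hm2) e (by
    have h6 : e ∈ Nat.divisors 36 := Nat.mem_divisors.2 ⟨he36, by norm_num⟩
    have h7 : Nat.divisors 36 = {1, 2, 3, 4, 6, 9, 12, 18, 36} := by decide +kernel
    rw [h7] at h6
    simpa using h6)
  rw [← hm] at ht
  unfold test at ht
  rw [hNi] at ht
  simp only [Bool.or_eq_true, Bool.and_eq_true, Bool.not_eq_true', ← Bool.not_eq_true, Nat.beq_eq, ← Nat.dvd_iff_mod_eq_zero] at ht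
  have hmod' : N.index % 37 = 1 := hmod
  rcases ht with ((((ht | ht) | ht) | ht) | ht) | ht
  · exact absurd hmod' ht
  · exact absurd (hother 7 (by norm_num) (by rw [hcard]; norm_num) ht.1) ht.2
  · exact absurd (hother 11 (by norm_num) (by rw [hcard]; norm_num) ht.1) ht.2
  · exact absurd (hother 31 (by norm_num) (by rw [hcard]; norm_num) ht.1) ht.2
  · exact absurd (hother 67 (by norm_num) (by rw [hcard]; norm_num) ht.1) ht.2
  · exact ht

end Cfsg.Agent.H215.CC.LyThirtySeven
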